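import Cfsg.Agent.H90.R4.JThree
import Cfsg.Agent.H601.K4.Defs
import Cfsg.Agent.H714.K4.Defs

/-!
# K4 rows (S4947, S4547): J₃ (helper90)

Five real characters of odd degree: `1, 1215, 1215, 1615` and one of odd degree prime to five.  The elements of the
same order divisible by four are conjugate, so every class function is fixed by the cubing automorphism.

* `good5`, `odd5`, `rowA`.
-/

set_option autoImplicit false
set_option maxRecDepth 100000

namespace Cfsg.Agent.H90.K4.JThree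

open Cfsg Cfsg.Agent.Characters.Core Cfsg.Agent.H686.CharKit Subgroup
open Cfsg.Agent.H601.K4 Cfsg.Agent.H604.FS
open Cfsg.Agent.H417.JThreeLP Cfsg.Agent.J3Type.CodeGroup Cfsg.Agent.J3Type.CodeTab
open Cfsg.Agent.H90.R4

universe u

theorem ord_b : allN 1920 (fun i => or (Nat.beq (J3Type.CodeFacts.pw i 7) 0)
    (or (Nat.beq (J3Type.CodeFacts.pw i 9) 0) (Nat.beq (J3Type.CodeFacts.pw i 11) 0))) = true := by
  decide +kernel

section coded

variable {G : Type*} [Group G] {t : G} {D : ℕ → G}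

/-- the orders of the elements of even order divide 8, 10 or 12 -/
theorem order_dvd (h : Coded t D) (hall : ∀ g : G, orderOf g = 2 → IsConj t g) {g : G}
    (hg0 : orderOf g ≠ 0) (hg : 2 ∣ orderOf g) :
    orderOf g ∣ 8 ∨ orderOf g ∣ 10 ∨ orderOf g ∣ 12 := by
  obtain ⟨m, hm⟩ := hg
  have h1 : orderOf (g ^ m) = 2 := by
    rw [orderOf_pow_of_dvd (by rintro rfl; omega) ⟨2, by rw [hm, mul_comm]⟩, hm,
      Nat.mul_div_cancel _ (by omega)]
  obtain ⟨i, hi, h2, -⟩ := h.root (hall _ h1)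
  rw [← orderOf_conj' h2]
  have h3 := allN_spec _ _ ord_b i hi
  rw [Bool.or_eq_true, Bool.or_eq_true] at h3
  rcases h3 with h3 | h3 | h3
  · exact Or.inl (orderOf_dvd_of_pow_eq_one ((h.pw_one hi 7).2 (eq_of_beq h3)))
  · exact Or.inr (Or.inl (orderOf_dvd_of_pow_eq_one ((h.pw_one hi 9).2 (eq_of_beq h3))))
  · exact Or.inr (Or.inr (orderOf_dvd_of_pow_eq_one ((h.pw_one hi 11).2 (eq_of_beq h3))))

/-- elements of the same order divisible by four are conjugate -/
theorem conj_of_four (h : Coded t D) (hall : ∀ g : G, orderOf g = 2 → IsConj t g) {a b : G}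
    (ha0 : orderOf a ≠ 0) (ha : 4 ∣ orderOf a) (hab : orderOf a = orderOf b) : IsConj a b := by
  have h1 := order_dvd h hall ha0 ((by norm_num : 2 ∣ 4).trans ha)
  have h2 : orderOf a = 4 ∨ orderOf a = 8 ∨ orderOf a = 12 := by
    obtain ⟨m, hm⟩ := ha
    have hm0 : m ≠ 0 := by rintro rfl; exact ha0 (by rw [hm])
    rw [hm] at h1 ⊢
    clear hm
    rcases h1 with h1 | h1 | h1 <;> have := Nat.le_of_dvd (by norm_num) h1 <;>
      have hm2 : m ≤ 3 := by omega
    all_goals interval_cases m <;> omega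
  rcases h2 with h2 | h2 | h2
  · exact (conj_four h hall h2).symm.trans (conj_four h hall (hab ▸ h2))
  · exact (conj_eight h hall h2).symm.trans (conj_eight h hall (hab ▸ h2))
  · exact (conj_twelve h hall h2).symm.trans (conj_twelve h hall (hab ▸ h2))

end coded

/-- the exponent of `SigFix` is prime to the orders -/
theorem coprime_of_sig {S : Type*} [Group S] [Finite S] {k : ℕ}
    (h2 : ∀ g : S, (∃ j : ℕ, orderOf g = 2 ^ j) → g ^ k = g ^ 3)
    (h3 : ∀ g : S, Odd (orderOf g) → g ^ k = g) (g : S) : (orderOf g).Coprime k := by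
  rw [Nat.coprime_iff_gcd_eq_one]
  by_contra hne
  obtain ⟨p, hp, hpd⟩ := Nat.exists_prime_and_dvd hne
  have hpg : p ∣ orderOf g := hpd.trans (Nat.gcd_dvd_left _ _)
  have hpk : p ∣ k := hpd.trans (Nat.gcd_dvd_right _ _)
  obtain ⟨y, hy⟩ : ∃ y : S, orderOf y = p := ⟨g ^ (orderOf g / p), by
    have h0 : 0 < orderOf g := orderOf_pos g
    exact orderOf_pow_orderOf_div h0.ne' hpg⟩
  have hyk : y ^ k = 1 := by
    rw [← orderOf_dvd_iff_pow_eq_one, hy]
    exact hpk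
  rcases hp.eq_two_or_odd' with rfl | hodd
  · have h4 := h2 y ⟨1, by rw [hy, pow_one]⟩
    rw [hyk] at h4
    have h5 : orderOf y ∣ 3 := orderOf_dvd_of_pow_eq_one h4.symm
    rw [hy] at h5
    omega
  · have h4 := h3 y (by rw [hy]; exact hodd)
    rw [hyk] at h4
    rw [← h4, orderOf_one] at hy
    exact hp.one_lt.ne hy

/-- if the elements of the same order divisible by four are conjugate, every class function is fixed by the cubing
automorphism -/
theorem sigFix_of_conj {S : Type*} [Group S] [Finite S]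
    (hc : ∀ a b : S, 4 ∣ orderOf a → orderOf a = orderOf b → IsConj a b) {χ : S → ℂ}
    (hχ : ∀ x y : S, IsConj x y → χ x = χ y) : SigFix χ := by
  intro k h2 h3 g
  have hcop := coprime_of_sig h2 h3 g
  by_cases h4 : 4 ∣ orderOf g
  · refine (hχ _ _ (hc g (g ^ k) h4 ?_)).symm
    rw [hcop.orderOf_pow]
  · -- `g = (g ^ 2)`-part times an involution
    have hpos : 0 < orderOf g := orderOf_pos g
    rcases Nat.even_or_odd (orderOf g) with ⟨m, hm⟩ | ho
    · have hmo : Odd m := by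
        rw [← Nat.not_even_iff_odd]
        rintro ⟨n, hn⟩
        exact h4 ⟨n, by omega⟩
      have e1 : orderOf (g ^ 2) = m := by
        rw [orderOf_pow_of_dvd two_ne_zero ⟨m, by omega⟩, hm, ← two_mul, Nat.mul_div_cancel_left _ two_pos]
      have e2 : (g ^ 2) ^ k = g ^ 2 := h3 _ (by rw [e1]; exact hmo)
      have e3 : orderOf (g ^ m) = 2 := by
        rw [orderOf_pow_of_dvd (by omega) ⟨2, by omega⟩, hm, ← two_mul, Nat.mul_div_cancel _ (by omega)]
      have e4 : (g ^ m) ^ k = g ^ m := by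
        have h5 := h2 (g ^ m) ⟨1, by rw [e3, pow_one]⟩
        rw [h5, pow_succ, ← e3, pow_orderOf_eq_one, one_mul]
      obtain ⟨n, hn⟩ := hmo
      have e5 : g ^ k = g := by
        have h6 : g * (g ^ 2) ^ n = g ^ m := by
          rw [← pow_mul, ← pow_succ', hn]
        have h7 : g ^ k * (g ^ 2) ^ n = g * (g ^ 2) ^ n := by
          have h8 : (g ^ m) ^ k = g ^ k * ((g ^ 2) ^ k) ^ n := by
            rw [← h6, ← pow_mul, ← pow_mul, ← pow_mul, ← pow_succ', ← pow_mul, ← pow_add]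
            congr 1
            ring
          rw [e2, e4] at h8
          rw [← h8, h6]
        exact mul_right_cancel h7
      rw [e5]
    · rw [h3 g ho]

section

variable {K : Type u} [Group K]

theorem sigFix [Finite K] (h : Spor.IsoJ3 K) {χ : K → ℂ} (hχ : IsIrrCharacter K χ) : SigFix χ := by
  obtain ⟨t, D, hD, hall⟩ := H417.JThreeCols.exists_coded_iso h
  refine sigFix_of_conj (fun a b ha hab => conj_of_four hD hall (orderOf_pos a).ne' ha hab) ?_
  intro x y hxy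
  obtain ⟨c, hc⟩ := isConj_iff.1 hxy
  rw [← hc, isIrr_isClassFunction hχ x c]

theorem finite (h : Spor.IsoJ3 K) : Finite K := by
  obtain ⟨-, hc, -⟩ := H898.J3Cent.base h
  exact Nat.finite_of_card_ne_zero (by rw [hc]; norm_num)

/-- there are exactly two characters of degree 1215 and both are real -/
theorem exists_two [Finite K] (h : Spor.IsoJ3 K) : ∃ χ ψ : IrrCharacter K, χ ≠ ψ ∧
    (∀ g : K, ((χ : K → ℂ) g).im = 0) ∧ (∀ g : K, ((ψ : K → ℂ) g).im = 0) ∧ (χ : K → ℂ) 1 = (1215 : ℕ) ∧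
    (ψ : K → ℂ) 1 = (1215 : ℕ) ∧ ∀ θ : IrrCharacter K, (θ : K → ℂ) 1 = (1215 : ℕ) → θ = χ ∨ θ = ψ := by
  classical
  have := finite_irr (G := K)
  let _ := Fintype.ofFinite (IrrCharacter K)
  obtain ⟨V, hdg, hV⟩ := H417.JThreeDeg.hyp h
  obtain ⟨χ, hr, hd⟩ := J3.exists_real h J3.chk_a J3.bd_a
  have hrow : ∀ l ∈ vecs, (fn l 0 % 17 == 8 || fn l 0 % 17 == 9) = true ↔ fn l 0 = 1215 := by
    decide +kernel
  have hdeg : ∀ θ : IrrCharacter K, V θ 0 = 1215 ↔ (θ : K → ℂ) 1 = (1215 : ℕ) := by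
    intro θ
    rw [hdg, M23Order.Base.dg_eq]
    norm_cast
  have h3 := hV.n3
  rw [num] at h3
  have e1 : ∑ θ, ind (V θ 0 % 17 == 8 || V θ 0 % 17 == 9) =
      ((Finset.univ.filter fun θ : IrrCharacter K => (θ : K → ℂ) 1 = (1215 : ℕ)).card : ℤ) := by
    rw [Finset.card_filter]
    push_cast
    refine Finset.sum_congr rfl fun θ _ => ?_
    obtain ⟨l, hl, hv⟩ := hV.mem θ
    have h4 := hrow l hl
    rw [← hv, hdeg] at h4
    by_cases hp : (θ : K → ℂ) 1 = (1215 : ℕ)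
    · rw [H417.JThreeLP.ind, if_pos (h4.2 hp)]
      exact (if_pos (by simpa using hp)).symm
    · rw [H417.JThreeLP.ind, if_neg fun h' => hp (h4.1 h')]
      exact (if_neg (by simpa using hp)).symm
  rw [e1] at h3
  have h4 : (Finset.univ.filter fun θ : IrrCharacter K => (θ : K → ℂ) 1 = (1215 : ℕ)).card = 2 := by
    exact_mod_cast h3
  obtain ⟨α, β, hαβ, hS⟩ := Finset.card_eq_two.1 h4
  have hmem : ∀ θ : IrrCharacter K, (θ : K → ℂ) 1 = (1215 : ℕ) ↔ θ = α ∨ θ = β := by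
    intro θ
    have h5 : θ ∈ (Finset.univ.filter fun θ : IrrCharacter K => (θ : K → ℂ) 1 = (1215 : ℕ)) ↔
        θ ∈ ({α, β} : Finset (IrrCharacter K)) := by rw [hS]
    simpa using h5
  -- the other one
  obtain ⟨ψ, hψ, hd2, hall⟩ : ∃ ψ : IrrCharacter K, χ ≠ ψ ∧ (ψ : K → ℂ) 1 = (1215 : ℕ) ∧
      ∀ θ : IrrCharacter K, (θ : K → ℂ) 1 = (1215 : ℕ) → θ = χ ∨ θ = ψ := by
    rcases (hmem χ).1 hd with rfl | rfl
    · exact ⟨β, hαβ, (hmem β).2 (Or.inr rfl), fun θ hθ => (hmem θ).1 hθ⟩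
    · exact ⟨α, hαβ.symm, (hmem α).2 (Or.inl rfl), fun θ hθ => ((hmem θ).1 hθ).symm⟩
  refine ⟨χ, ψ, hψ, hr, ?_, hd, hd2, hall⟩
  -- the conjugate of the other one
  have hre : ∀ g, (starRingEnd ℂ) ((χ : K → ℂ) g) = (χ : K → ℂ) g := fun g => Complex.conj_eq_iff_im.2 (hr g)
  have hcj : IsIrrCharacter K (fun g => (starRingEnd ℂ) ((ψ : K → ℂ) g)) := isIrr_conj ψ.2
  rcases hall ⟨_, hcj⟩ (by
    show (starRingEnd ℂ) ((ψ : K → ℂ) 1) = _
    rw [hd2]
    exact map_natCast _ _) with h5 | h5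
  · exfalso
    apply hψ
    apply Subtype.ext
    funext g
    have h6 := congrFun (congrArg Subtype.val h5) g
    have h7 : (starRingEnd ℂ) ((ψ : K → ℂ) g) = (χ : K → ℂ) g := h6
    rw [← hre g, ← h7, Complex.conj_conj]
  · intro g
    have h6 : (starRingEnd ℂ) ((ψ : K → ℂ) g) = (ψ : K → ℂ) g := congrFun (congrArg Subtype.val h5) g
    exact Complex.conj_eq_iff_im.1 h6

/-- a real character of odd degree prime to five -/
theorem exists_five [Finite K] (h : Spor.IsoJ3 K) : ∃ χ : IrrCharacter K,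
    (∀ g : K, ((χ : K → ℂ) g).im = 0) ∧ ∃ c : ℕ, Odd c ∧ ¬ 5 ∣ c ∧ c ≠ 1 ∧ (χ : K → ℂ) 1 = c := by
  obtain ⟨hsim, hc, hM⟩ := H898.J3Cent.base h
  have hna : ¬ IsMulCommutative K := by
    intro hm
    exact H462.RealJ.nonab_of_card (G := K) (by rw [hc]; norm_num) fun x y => hm.1.1 x y
  have hp5 : Fact (Nat.Prime 5) := ⟨by norm_num⟩
  obtain ⟨x, hx, hr⟩ := H462.RealJ.real_J3 h (p := 5) (Or.inr (Or.inl rfl))
  obtain ⟨c, hco, hc5, hRc⟩ := Prime.prime_odd (G := K) (p := 5) (by norm_num) (by norm_num)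
    (by rw [hc]; norm_num) hx hr ⊤ (mem_top x) (m := 1) odd_one (by simp)
  have hc1 : c ≠ 1 := by
    have hst : IsSimpleGroup (⊤ : Subgroup K) := (Subgroup.topEquiv (G := K)).isSimpleGroup
    refine H619.R4.RD.ne_one (fun hm => hna ?_) hRc
    refine ⟨⟨fun a b => ?_⟩⟩
    exact congrArg Subtype.val (hm.1.1 (⟨a, mem_top a⟩ : (⊤ : Subgroup K)) ⟨b, mem_top b⟩)
  obtain ⟨χ, h3, -, h4⟩ := hRc
  exact ⟨χ, h3, c, hco, hc5, hc1, by rw [← charDegree_irr, h4]⟩

theorem oddIrr_of {χ : IrrCharacter K} {n : ℕ} (hn : (χ : K → ℂ) 1 = n) (ho : Odd n) : OddIrr (χ : K → ℂ) := by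
  refine ⟨χ.2, ?_⟩
  rw [Cfsg.Agent.Blocks.Basic.charDegree_of_eq hn]
  exact fun hd => (Nat.not_even_iff_odd.2 ho) (even_iff_two_dvd.2 hd)

/-- **K4 row J₃** -/
theorem good5 (h : Spor.IsoJ3 K) : Good5 K := by
  have := finite h
  obtain ⟨α, β, hαβ, hrα, hrβ, hdα, hdβ, -⟩ := exists_two h
  obtain ⟨γ, hrγ, hdγ⟩ := J3.exists_real h J3.chk_b J3.bd_b
  obtain ⟨δ, hrδ, c, hco, hc5, hc1, hdδ⟩ := exists_five h
  have good : ∀ (χ : IrrCharacter K) (n : ℕ), (∀ g : K, ((χ : K → ℂ) g).im = 0) → (χ : K → ℂ) 1 = n → Odd n →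
      Good (χ : K → ℂ) := fun χ n hr hd ho =>
    ⟨oddIrr_of hd ho, sigFix h χ.2, InB0.of_real (oddIrr_of hd ho) hr⟩
  let ε : IrrCharacter K := ⟨1, isIrr_one⟩
  have hdε : (ε : K → ℂ) 1 = (1 : ℕ) := by
    show (1 : ℂ) = _
    simp
  have hne : ∀ {χ ψ : IrrCharacter K} {m n : ℕ}, (χ : K → ℂ) 1 = m → (ψ : K → ℂ) 1 = n → m ≠ n →
      (χ : K → ℂ) ≠ (ψ : K → ℂ) := by
    intro χ ψ m n h1 h2 h3 h4
    rw [h4, h2] at h1
    exact h3 (by exact_mod_cast h1.symm)
  have hc1215 : c ≠ 1215 := by rintro rfl; exact hc5 (by norm_num)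
  have hc1615 : c ≠ 1615 := by rintro rfl; exact hc5 (by norm_num)
  have hαβ' : (α : K → ℂ) ≠ (β : K → ℂ) := fun h => hαβ (Subtype.ext h)
  have h1 := hne hdε hdα (by norm_num)
  have h2 := hne hdε hdβ (by norm_num)
  have h3 := hne hdε hdγ (by norm_num)
  have h4 := hne hdε hdδ hc1.symm
  have h5 := hne hdα hdγ (by norm_num)
  have h6 := hne hdβ hdγ (by norm_num)
  have h7 := hne hdδ hdα hc1215
  have h8 := hne hdδ hdβ hc1215
  have h9 := hne hdδ hdγ hc1615
  refine ⟨![(ε : K → ℂ), α, β, γ, δ], ?_, ?_⟩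
  · intro i j hij
    fin_cases i <;> fin_cases j <;> first | rfl | (exfalso; revert hij; simp [*, h1.symm, h2.symm, h3.symm, h4.symm, h5.symm, h6.symm, h7.symm, h8.symm, h9.symm, hαβ'.symm])
  · intro i
    fin_cases i
    · exact good ε 1 (fun g => by show ((1 : ℂ)).im = 0; simp) hdε odd_one
    · exact good α 1215 hrα hdα (by decide)
    · exact good β 1215 hrβ hdβ (by decide)
    · exact good γ 1615 hrγ hdγ (by decide)
    · exact good δ c hrδ hdδ hco

theorem odd5 (h : Spor.IsoJ3 K) : Odd5 K := (good5 h).odd5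

theorem rowA (h : Spor.IsoJ3 K) : H714.K4.RowA K := by
  classical
  have := finite h
  obtain ⟨χ, h1, h2⟩ := odd5 h
  refine H714.K4.rowA_of_finset (Finset.univ.image χ) ?_ ?_
  · rw [Finset.card_image_of_injective _ h1]
    simp
  · intro ψ hψ
    obtain ⟨i, -, rfl⟩ := Finset.mem_image.1 hψ
    exact h2 i

end

end Cfsg.Agent.H90.K4.JThree
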