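import Cfsg.Agent.H55.JThreeOut
import Cfsg.Agent.J3.Simple
import Cfsg.Agent.S2067

/-!
# `J₃`: an outer automorphism of order two fixes an element of order 17 (helper90)

The semilinear automorphism `phi` of helper55 fixes `A_i C_1 D_1`.

* `exists_outer` : an automorphism which is not inner and fixes an element of order 17;
* `aut_cases` : every automorphism is inner or this automorphism followed by an inner one.
-/

set_option autoImplicit false
set_option maxRecDepth 100000

namespace Cfsg.Agent.H90.K4.JThreePhi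

open Cfsg Subgroup
open Cfsg.Spor Cfsg.Agent.J3.Core Cfsg.Agent.J3.Tab Cfsg.Agent.J3.Mono Cfsg.Agent.J3.Elts
open Cfsg.Agent.Lib.BitSet Cfsg.Agent.J3.Order Cfsg.Agent.J3.Nineteen Cfsg.Agent.J3.Simple Matrix
open Cfsg.Agent.H55 Cfsg.Agent.H55.JThree

/-- the table of `A_i C_1 D_1` -/
def tX : List ℕ := compT (tA F9.I) (compT tC (tD F9.one))

theorem chk17 : beqL (cols (powT tX 17)) (cols (tS 0)) = true := by decide +kernel

theorem chk1 : (cols tX).getD (idx 0) 0 ≠ (cols (tS 0)).getD (idx 0) 0 := by decide +kernel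

section

variable {F : Type*} [Field F] {ω : F}

theorem phi_a [Fintype F] (hF : Fintype.card F = 4) (H : Good ω) (G : Gens F ω) :
    phi hF H (G.a F9.I) = G.a F9.I := by
  apply mat_injective
  rw [mat_phi, G.ha, phiM_A]
  congr 1

theorem phi_d [Fintype F] (hF : Fintype.card F = 4) (H : Good ω) (G : Gens F ω) :
    phi hF H (G.d F9.one) = G.d F9.one := by
  apply mat_injective
  rw [mat_phi, G.hd, phiM_D]
  congr 1

theorem phi_c [Fintype F] (hF : Fintype.card F = 4) (H : Good ω) (G : Gens F ω) :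
    phi hF H G.c = G.c := by
  apply mat_injective
  rw [mat_phi, G.hc, phiM_C]
  congr 1

theorem rX (H : Good ω) (G : Gens F ω) : RepG ω tX (G.a F9.I * (G.c * G.d F9.one)) :=
  (rA G H F9.I).mul ((rC G H).mul (rD G H F9.one))

theorem pow17 (H : Good ω) (G : Gens F ω) : (G.a F9.I * (G.c * G.d F9.one)) ^ 17 = 1 :=
  ((rX H G).pow H 17).ext (repG_one H) (beqL_eq chk17)

theorem x_ne_one (H : Good ω) (G : Gens F ω) : G.a F9.I * (G.c * G.d F9.one) ≠ 1 := by
  intro h
  have h1 := rX H G
  rw [h] at h1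
  exact chk1 (h1.cols_eq H (repG_one H) 0)

theorem card_center_three [Fintype F] (hF : Fintype.card F = 4) (H : Good ω) :
    Nat.card (center (threeJ3 F ω)) = 3 := card_center hF H

/-- the automorphism of the model -/
theorem exists_outer_model [Fintype F] (hF : Fintype.card F = 4) (H : Good ω) :
    ∃ α : MulAut (J3 F ω), (∀ k, α ≠ MulAut.conj k) ∧ ∃ x : J3 F ω, orderOf x = 17 ∧ α x = x := by
  obtain ⟨G⟩ := exists_gens hF H
  have hp : Fact (Nat.Prime 17) := ⟨by norm_num⟩
  refine ⟨OutGen.centerQuot (phi hF H), OutGen.centerQuot_not_inner (hom_center hF H) (phi_not_inner hF H),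
    QuotientGroup.mk (G.a F9.I * (G.c * G.d F9.one)), ?_, ?_⟩
  · refine orderOf_eq_prime ?_ ?_
    · rw [← QuotientGroup.mk_pow, pow17 H G, QuotientGroup.mk_one]
    · intro h
      rw [QuotientGroup.eq_one_iff] at h
      set x := G.a F9.I * (G.c * G.d F9.one) with hx
      have h3 : x ^ 3 = 1 := by
        have h4 : (⟨x, h⟩ : center (threeJ3 F ω)) ^ Nat.card (center (threeJ3 F ω)) = 1 :=
          pow_card_eq_one'
        have h5 := congrArg Subtype.val h4
        rwa [Subgroup.coe_pow, card_center hF H] at h5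
      have h5 : x ^ 17 = 1 := pow17 H G
      apply x_ne_one H G
      rw [← hx]
      have h6 : orderOf x ∣ Nat.gcd 3 17 := Nat.dvd_gcd (orderOf_dvd_of_pow_eq_one h3) (orderOf_dvd_of_pow_eq_one h5)
      rw [show Nat.gcd 3 17 = 1 by norm_num, Nat.dvd_one, orderOf_eq_one_iff] at h6
      exact h6
  · rw [OutGen.centerQuot_mk, map_mul, map_mul, phi_a, phi_c, phi_d]

end

/-- **An outer automorphism fixing an element of order 17.** -/
theorem exists_outer {K : Type*} [Group K] (h : Spor.IsoJ3 K) :
    ∃ α : MulAut K, (∀ k, α ≠ MulAut.conj k) ∧ ∃ x : K, orderOf x = 17 ∧ α x = x := by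
  obtain ⟨F, _, _, ω, hF, hω, ⟨e⟩⟩ := h
  obtain ⟨α, hα, x, hx, hαx⟩ := exists_outer_model hF (good_of_card hF hω)
  refine ⟨(e.trans α).trans e.symm, fun k hk => hα (e k) ?_, e.symm x, ?_, ?_⟩
  · ext y
    have h1 := congrArg (fun f : MulAut K => e (f (e.symm y))) hk
    have h2 : e (((e.trans α).trans e.symm) (e.symm y)) = α y := by
      show e (e.symm (α (e (e.symm y)))) = α y
      rw [e.apply_symm_apply, e.apply_symm_apply]
    have h3 : e ((MulAut.conj k : MulAut K) (e.symm y)) = (MulAut.conj (e k) : MulAut (J3 F ω)) y := by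
      rw [MulAut.conj_apply, MulAut.conj_apply, map_mul, map_mul, map_inv, e.apply_symm_apply]
    exact h2.symm.trans (h1.trans h3)
  · rw [MulEquiv.orderOf_eq, hx]
  · show e.symm (α (e (e.symm x))) = e.symm x
    rw [e.apply_symm_apply, hαx]

/-- every automorphism is inner or `β` followed by an inner one -/
theorem aut_cases {K : Type*} [Group K] (h : Spor.IsoJ3 K) {β : MulAut K} (hβ : ∀ k, β ≠ MulAut.conj k)
    (α : MulAut K) : ∃ k, α = MulAut.conj k ∨ α = MulAut.conj k * β := by
  set R := (MulAut.conj : K →* MulAut K).range with hR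
  have h1 : R.index = 2 := by
    rcases S2067.index_le K h with h1 | h1
    · exfalso
      have h2 : β ∈ R := by
        have h3 : R = ⊤ := Subgroup.index_eq_one.1 h1
        rw [h3]
        exact mem_top β
      obtain ⟨k, hk⟩ := h2
      exact hβ k hk.symm
    · exact h1
  have hβR : β ∉ R := fun ⟨k, hk⟩ => hβ k hk.symm
  by_cases hα : α ∈ R
  · obtain ⟨k, hk⟩ := hα
    exact ⟨k, Or.inl hk.symm⟩
  · have h2 : α * β⁻¹ ∈ R := by
      rw [Subgroup.mul_mem_iff_of_index_two h1, inv_mem_iff]
      exact ⟨fun h => absurd h hα, fun h => absurd h hβR⟩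
    obtain ⟨k, hk⟩ := h2
    exact ⟨k, Or.inr (by rw [hk, inv_mul_cancel_right])⟩

end Cfsg.Agent.H90.K4.JThreePhi
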